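import Groth.Agent.LocCohSweep.DualityLocus
import Groth.Agent.Depth.CM
import Groth.Prelude.Def_Formal

/-!
# Annihilators of local cohomology from depth conditions along a principal ideal
-/

set_option autoImplicit false
universe u

open CategoryTheory IsLocalRing
attribute [local instance] HasDerivedCategory.standard

namespace Groth.Agent.Formal53.Ann

open Groth.Agent Groth.Agent.DualCx
open Devissage (E)
open Dimfun (B Z deg)

variable {A : Type u} [CommRing A] [IsNoetherianRing A] [IsLocalRing A] {f : A}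

/-- An ideal with no point of the punctured zero locus of `f` contains a power of `m` modulo `f`. -/
theorem exists_pow_le_sup (J : Ideal A)
    (h : ∀ p : Ideal A, p.IsPrime → f ∈ p → p ≠ maximalIdeal A → ¬ J ≤ p) :
    ∃ N : ℕ, maximalIdeal A ^ N ≤ J ⊔ Ideal.span {f} := by
  refine Ideal.exists_pow_le_of_le_radical_of_fg ?_ (IsNoetherian.noetherian _)
  rw [Ideal.radical_eq_sInf, le_sInf_iff]
  rintro p ⟨hJp, hp⟩
  by_contra hne
  refine h p hp ((le_sup_right.trans hJp) (Ideal.mem_span_singleton_self f)) (fun he => hne he.ge) (le_sup_left.trans hJp)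

/-- The saturation by `f` of an ideal whose points off `V(f)` are isolated from it outside `m`. -/
theorem exists_saturation (J : Ideal A)
    (h : ∀ p : Ideal A, p.IsPrime → f ∉ p → J ≤ p →
      ∀ r : Ideal A, r.IsPrime → p ≤ r → f ∈ r → r = maximalIdeal A) :
    ∃ c N : ℕ, ∀ a ∈ maximalIdeal A ^ N, ∃ b q : A, a = b + q * f ∧ b * f ^ c ∈ J := by
  let K : ℕ →o Ideal A := ⟨fun c => Submodule.comap (LinearMap.mulRight A (f ^ c)) J, fun c d hcd b hb => by
    show b * f ^ d ∈ J
    obtain ⟨k, rfl⟩ := Nat.exists_eq_add_of_le hcd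
    rw [pow_add, ← mul_assoc]
    exact J.mul_mem_right _ hb⟩
  obtain ⟨c, hc⟩ := monotone_stabilizes_iff_noetherian.mpr (inferInstance : IsNoetherian A A) K
  obtain ⟨N, hN⟩ := exists_pow_le_sup (K c) (f := f) fun r hr hfr hrne hle => by
    obtain ⟨p, hp, hpr⟩ := Ideal.exists_minimalPrimes_le hle
    haveI := hp.1.1
    have hfp : f ∉ p := fun hfp => by
      obtain ⟨y, hy, hfy⟩ : ∃ y, y ∉ K c ∧ f * y ∈ K c := by
        have hnz := Module.associatedPrimes.minimalPrimes_annihilator_subset_associatedPrimes A (A ⧸ K c)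
          (show p ∈ (Module.annihilator A (A ⧸ K c)).minimalPrimes by rwa [Ideal.annihilator_quotient])
        obtain ⟨x, hx0, hx⟩ : ∃ x : A ⧸ K c, x ≠ 0 ∧ f • x = 0 := by
          have h1 : f ∈ ⋃ q ∈ associatedPrimes A (A ⧸ K c), (q : Set A) := Set.mem_biUnion hnz hfp
          rw [biUnion_associatedPrimes_eq_zero_divisors] at h1
          exact h1
        obtain ⟨y, rfl⟩ := Ideal.Quotient.mk_surjective x
        refine ⟨y, fun hy => hx0 (Ideal.Quotient.eq_zero_iff_mem.2 hy), Ideal.Quotient.eq_zero_iff_mem.1 ?_⟩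
        rw [map_mul]
        exact hx
      refine hy ?_
      rw [hc (c + 1) (Nat.le_succ c)]
      show y * f ^ (c + 1) ∈ J
      have : f * y * f ^ c ∈ J := hfy
      rwa [pow_succ', ← mul_assoc, mul_comm y f]
    have hJp : J ≤ p := le_trans (fun b hb => show b * f ^ c ∈ J from J.mul_mem_right _ hb) hp.1.2
    exact hrne (h p inferInstance hfp hJp r hr hpr hfr)
  refine ⟨c, N, fun a ha => ?_⟩
  obtain ⟨b, hb, z, hz, rfl⟩ := Submodule.mem_sup.1 (hN ha)
  obtain ⟨q, rfl⟩ := Ideal.mem_span_singleton'.1 hz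
  exact ⟨b, q, rfl, hb⟩

variable {ω : Dual.D A} (hω : Dual.IsDualizing A ω) (hn : Dual.IsNormalized A ω)

include hω hn in
/-- The annihilator of `H^i_m(M)` does not lie in `p` when `depth M_p + dim A/p > i`. -/
theorem not_ann_le (M : Type u) [AddCommGroup M] [Module A M] [Module.Finite A M] (p : PrimeSpectrum A) (i : ℕ)
    (h : (i : WithBot ℕ∞) < ((_root_.LocCoh.depth (B p) (LocalizedModule p.1.primeCompl M) : ℕ∞) : WithBot ℕ∞) +
      ringKrullDim (A ⧸ p.1)) :
    ¬ Module.annihilator A (_root_.LocCoh.H (maximalIdeal A) i M) ≤ p.1 := by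
  rw [LocCohSweep.DualityLocus.annihilator_H hω hn M i]
  have := LocCohSweep.DualityLocus.finite_E hω hn M (-(i : ℤ))
  have hZ : Z p (E M ω (-(i : ℤ))) := by
    by_cases hsub : Subsingleton (LocalizedModule p.1.primeCompl M)
    · rw [Normalized.Z_E_iff hω]
      exact Devissage.subsingleton_of_subsingleton _
    · have := not_subsingleton_iff_nontrivial.mp hsub
      obtain ⟨hd, hle⟩ := LocCohSweep.DualityLocus.deg_eq hω hn p
      obtain ⟨k, hk, hZ, -⟩ := Normalized.depth_spec hω p M
      rw [hk, hd] at h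
      have h' : i < k + (-deg hω p).toNat := by exact_mod_cast h
      exact hZ _ (by omega)
  rwa [Dimfun.Z_iff_localized, ← Module.notMem_support_iff, Module.mem_support_iff_of_finite] at hZ

open Groth.Agent.Depth in
/-- Depth of `A_p` from that of `(A/f)_p`. -/
theorem depth_loc (hf : f ∈ nonZeroDivisors A) (p : Ideal A) [p.IsPrime] (hfp : f ∈ p) :
    _root_.LocCoh.depth (Localization.AtPrime p) (LocalizedModule p.primeCompl (A ⧸ Ideal.span {f})) + 1 =
      _root_.LocCoh.depth (Localization.AtPrime p) (LocalizedModule p.primeCompl A) := by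
  let R := Localization.AtPrime p
  let Ap := LocalizedModule p.primeCompl A
  let ι := LocalizedModule.mkLinearMap p.primeCompl A
  haveI : Module.Finite R Ap := Module.Finite.equiv (Depth.localizedModuleSelfEquiv p.primeCompl).symm
  have hreg : IsSMulRegular Ap (algebraMap A R f) := by
    refine IsSMulRegular.of_right_eq_zero_of_smul fun z hz => ?_
    obtain ⟨⟨m, s⟩, rfl⟩ := IsLocalizedModule.mk'_surjective p.primeCompl ι z
    simp only [Function.uncurry] at hz ⊢
    rw [algebraMap_smul, ← IsLocalizedModule.mk'_smul, IsLocalizedModule.mk'_eq_zero'] at hz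
    rw [IsLocalizedModule.mk'_eq_zero']
    obtain ⟨c, hc⟩ := hz
    refine ⟨c, mem_nonZeroDivisors_iff_right.1 hf _ ?_⟩
    show (c : A) * m * f = 0
    have hc' : (c : A) * (f * m) = 0 := hc
    rw [← hc']; ring
  have key := Depth.idealDepth_quotSMulTop_add_one (I := maximalIdeal R) (M := Ap)
    ((IsLocalization.AtPrime.to_map_mem_maximal_iff R p f).mpr hfp) hreg
  refine Eq.trans (congrArg (· + 1) ?_) key
  have hsub : Ideal.span {f} • (⊤ : Submodule A A) = Ideal.span {f} := by
    rw [smul_eq_mul, Ideal.mul_top]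
  refine (Depth.idealDepth_congr ((Submodule.quotEquivOfEq _ _ ?_).trans
    (localizedQuotientEquiv p.primeCompl (Ideal.span {f} : Submodule A A)))).symm
  change _ = Submodule.localized' R p.primeCompl ι _
  rw [← Submodule.ideal_span_singleton_smul, ← hsub, Submodule.localized'_smul, Submodule.localized'_top,
    Ideal.localized'_eq_map, Ideal.map_span, Set.image_singleton]

end Groth.Agent.Formal53.Ann
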