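import Groth.Agent.Formal61.PrinAlg

/-!
# Algebraization along a regular element when the connecting images stabilise
-/

set_option autoImplicit false
universe u

open CategoryTheory CategoryTheory.Limits AlgebraicGeometry Opposite
open Groth.Agent.FormalSupp
open Groth.Agent.Formal61 Groth.Agent.Formal61.PrinAlg

noncomputable section

namespace Groth.Agent.Formal53.PrinStable

variable {A : Type u} [CommRing A] [IsNoetherianRing A] {𝔞 : Ideal A} {f : A}

local notation "U" => LocCoh.puncturedOpen A 𝔞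

variable {G : ℕᵒᵖ ⥤ (LocCoh.puncturedOpen A 𝔞 : Scheme.{u}).Modules} (hD : Dat 𝔞 f G)

local notation "II" => Ideal.span (Singleton.singleton f : Set A)

include hD

/-- Sections which extend far enough extend to all levels. -/
theorem exists_lift_all (h₁ : ∃ c, ∀ n, c ≤ n → LinearMap.range (δ hD c) = LinearMap.range (δ hD n)) : ∃ c : ℕ, ∀ (m : ℕ) (x : H hD (m + c + 1)),
    ∃ z ∈ M hD, z m = (tH hD (show m ≤ m + c + 1 by omega)).hom x := by
  obtain ⟨c, hc⟩ := h₁
  have step : ∀ (m' n : ℕ) (hn : m' + c + 1 ≤ n) (x : H hD n),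
      ∃ x' : H hD (n + 1), (tH hD (show m' ≤ n + 1 by omega)).hom x' = (tH hD (show m' ≤ n by omega)).hom x := by
    intro m' n hn x
    obtain ⟨k, rfl⟩ := Nat.exists_eq_add_of_le (show c ≤ n by omega)
    obtain ⟨y, hy⟩ : δ hD (c + k) x ∈ LinearMap.range (δ hD c) := by
      rw [hc (c + k) (by omega)]
      exact LinearMap.mem_range_self _ x
    obtain ⟨x', hx'⟩ := exists_of_δ hD (x - ((Model.Γf U).map (j hD c k)).hom y)
      (by rw [map_sub, δ_j, hy, sub_self])
    refine ⟨(tH hD (show c + k + 1 ≤ 0 + (c + k + 1) by omega)).hom x', ?_⟩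
    rw [tH_tH, ← tH_tH hD (show m' ≤ c + k by omega) (show c + k ≤ 0 + (c + k + 1) by omega), hx', map_sub,
      sub_eq_self, map_comp_apply]
    obtain ⟨l, rfl⟩ := Nat.exists_eq_add_of_le (show m' + 1 ≤ k by omega)
    have hz : j hD c (m' + 1 + l) ≫ tr (show m' ≤ c + (m' + 1 + l) by omega) = 0 := by
      haveI := epi_tr hD (G := G) (Nat.le_add_right c (m' + 1 + l))
      rw [← cancel_epi (tr (G := G) (Nat.le_add_right c (m' + 1 + l))), ← Category.assoc, tr_j, comp_zero,
        FormalFun.smulMod_natural, smul_pow_eq_zero hD (by omega), comp_zero]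
    rw [hz, Functor.map_zero]
    rfl
  refine ⟨c, fun m x => ?_⟩
  choose nx hnx using fun i => step (m + i) (m + c + 1 + i) (by omega)
  let xs : ∀ i : ℕ, H hD (m + c + 1 + i) :=
    fun i => Nat.rec (motive := fun i => H hD (m + c + 1 + i)) x (fun i y => nx i y) i
  let z : ∀ n : ℕ, H hD n := fun n => (tH hD (show n ≤ m + c + 1 + n by omega)).hom (xs n)
  have hz : z ∈ M hD := fun n => by
    show (tH hD _).hom ((tH hD _).hom (nx n (xs n))) = (tH hD _).hom (xs n)
    rw [tH_tH, ← tH_tH hD (show n ≤ m + n by omega) (show m + n ≤ m + c + 1 + (n + 1) by omega),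
      ← tH_tH hD (show n ≤ m + n by omega) (show m + n ≤ m + c + 1 + n by omega)]
    exact congrArg _ (hnx n (xs n))
  refine ⟨z, hz, ?_⟩
  have key : ∀ i, (tH hD (show m ≤ m + c + 1 + i by omega)).hom (xs i) =
      (tH hD (show m ≤ m + c + 1 by omega)).hom x := fun i => by
    induction i with
    | zero => rfl
    | succ i ih =>
      refine Eq.trans ?_ ih
      show (tH hD _).hom (nx i (xs i)) = _
      rw [← tH_tH hD (show m ≤ m + i by omega) (show m + i ≤ m + c + 1 + (i + 1) by omega),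
        ← tH_tH hD (show m ≤ m + i by omega) (show m + i ≤ m + c + 1 + i by omega)]
      exact congrArg _ (hnx i (xs i))
  exact key m

theorem torsion_coker_μ (h₁ : ∃ c, ∀ n, c ≤ n → LinearMap.range (δ hD c) = LinearMap.range (δ hD n)) (n : ℕ) (x : H hD n) : ∃ m : ℕ, ∀ a ∈ 𝔞 ^ m, ∃ z, μ hD n z = a • x := by
  obtain ⟨c, hc⟩ := exists_lift_all hD h₁
  haveI := fun i => (hD.coh.1 i).1
  haveI : QuasiCompact (Scheme.Opens.ι U) := inferInstance
  haveI : Epi ((Affine.Φ U).map (tH hD (show n ≤ n + c + 1 by omega))) := by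
    haveI := epi_tr hD (G := G) (show n ≤ n + c + 1 by omega)
    haveI := Model.isIso_counit U (G.obj (op n))
    haveI := Model.isIso_counit U (G.obj (op (n + c + 1)))
    have e : (Affine.Φ U).map (tH hD (show n ≤ n + c + 1 by omega)) ≫ (Model.adj U).counit.app _ =
        (Model.adj U).counit.app _ ≫ tr (show n ≤ n + c + 1 by omega) :=
      (Model.adj U).counit.naturality (tr (G := G) (show n ≤ n + c + 1 by omega))
    rw [← IsIso.eq_comp_inv] at e
    rw [e]
    infer_instance
  obtain ⟨m, hm⟩ := Model.exists_pow_mem_range (𝔞 := 𝔞) (tH hD (show n ≤ n + c + 1 by omega)) x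
  refine ⟨m, fun a ha => ?_⟩
  obtain ⟨y, hy⟩ := hm a ha
  obtain ⟨z, hz, hzn⟩ := hc n y
  exact ⟨⟨z, hz⟩, hzn.trans hy⟩

variable [IsAdicComplete (Ideal.span ({f} : Set A)) A]

theorem exists_algebraization (h₁ : ∃ c, ∀ n, c ≤ n → LinearMap.range (δ hD c) = LinearMap.range (δ hD n))
    (h₀ : Module.Finite A (Coh.HH (U : Scheme.{u}) (G.obj (op 0)) 0)) :
    ∃ F : (U : Scheme.{u}).Modules, Coh.IsCoh F ∧ Nonempty (Formal.completion II F ≅ G) := by
  haveI := finite_M hD h₀
  let P := ModuleCat.of A (M hD)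
  have hF : Coh.IsCoh ((Affine.Φ U).obj P) :=
    CohDev.isCoh_of_iso ((Scheme.Modules.restrictFunctorIsoPullback (Scheme.Opens.ι U)).app _).symm
      (ZClosLib.CohDescent.isCoh_pullback (Scheme.Opens.ι U) _
        (InjMod.isCoh_tilde_of_finite (R := CommRingCat.of A) P))
  refine ⟨_, hF, ?_⟩
  haveI := fun i => (hD.coh.1 i).1
  haveI : QuasiCompact (Scheme.Opens.ι U) := inferInstance
  haveI : ∀ n : ℕ, IsIso ((Model.adj U).counit.app (G.obj (op n))) := fun n => Model.isIso_counit U _
  let q : ∀ n : ℕ, (Affine.Φ U).obj P ⟶ G.obj (op n) := fun n =>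
    (Affine.Φ U).map (ModuleCat.ofHom (μ hD n)) ≫ (Model.adj U).counit.app (G.obj (op n))
  have hq : ∀ n, Sys.IsModQuot (II ^ (n + 1)) (q n) := fun n => by
    let K : Submodule A (M hD) := II ^ (n + 1) • ⊤
    have hK : K ≤ LinearMap.ker (μ hD n) := Submodule.smul_le.mpr fun a ha x _ => by
      rw [Ideal.span_singleton_pow, Ideal.mem_span_singleton'] at ha
      obtain ⟨c, rfl⟩ := ha
      rw [LinearMap.mem_ker, mul_smul, map_smul, smul_mem_ker hD, smul_zero]
    let l : ModuleCat.of A ((M hD) ⧸ K) ⟶ (Model.Γf U).obj (G.obj (op n)) := ModuleCat.ofHom (K.liftQ _ hK)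
    haveI : IsIso ((Affine.Φ U).map l) := Model.isIso_map l (fun x => ⟨0, fun a _ => by
        obtain ⟨x, hx⟩ := x
        obtain ⟨z, rfl⟩ := K.mkQ_surjective x
        obtain ⟨w, rfl⟩ := ker_μ hD n z hx
        refine Subtype.ext ?_
        show a • K.mkQ (f ^ (n + 1) • w) = 0
        rw [← map_smul]
        exact (Submodule.Quotient.mk_eq_zero _).2
          (Submodule.smul_mem _ _ (Submodule.smul_mem_smul (Principal.pow_mem f _) trivial))⟩)
      fun q' => by
        obtain ⟨x, rfl⟩ := Submodule.mkQ_surjective _ q'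
        obtain ⟨m, hm⟩ := torsion_coker_μ hD h₁ n x
        refine ⟨m, fun a ha => ?_⟩
        obtain ⟨z, hz⟩ := hm a ha
        rw [← map_smul]
        exact (Submodule.Quotient.mk_eq_zero _).2 ⟨K.mkQ z, hz⟩
    have h1 : Sys.IsModQuot (II ^ (n + 1)) ((Affine.Φ U).map (ModuleCat.ofHom (X := M hD) K.mkQ)) :=
      Affine.isModQuot U (M hD) f (n + 1)
    refine ModelSys.isModQuot_conj h1 (Iso.refl _)
      (asIso ((Affine.Φ U).map l ≫ (Model.adj U).counit.app (G.obj (op n)))).symm ?_
    rw [Iso.symm_hom, Iso.refl_hom, Category.id_comp, asIso_inv, IsIso.comp_inv_eq, ← Category.assoc,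
      ← Functor.map_comp]
    rfl
  obtain ⟨e, -⟩ := Sys.exists_completion_iso (G := G) _ q hq fun n => by
    show ((Affine.Φ U).map _ ≫ (Model.adj U).counit.app _) ≫ tr (Nat.le_succ n) = _
    rw [Category.assoc]
    refine (congrArg (_ ≫ ·) ((Model.adj U).counit.naturality (tr (Nat.le_succ n))).symm).trans ?_
    show (Affine.Φ U).map _ ≫ (Affine.Φ U).map ((Model.Γf U).map (tr (Nat.le_succ n))) ≫ _ = _
    rw [← Category.assoc, ← Functor.map_comp]
    refine congrArg (· ≫ (Model.adj U).counit.app (G.obj (op n))) (congrArg (Affine.Φ U).map ?_)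
    refine ModuleCat.hom_ext (LinearMap.ext fun z => ?_)
    exact z.2 n
  exact ⟨e⟩

end Groth.Agent.Formal53.PrinStable
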