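import Groth.Agent.Formal53.Ann
import Groth.Agent.Formal53.PrinStable
import Groth.Agent.Formal61.PrinFin
import Groth.Prelude.Def_FEt

/-!
# Algebraization of locally free formal modules on a punctured local spectrum
-/

set_option autoImplicit false
set_option backward.isDefEq.respectTransparency false
set_option backward.isDefEq.respectTransparency.types false
universe u

open CategoryTheory CategoryTheory.Limits AlgebraicGeometry Opposite
open Groth.Agent.FormalSupp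
open Groth.Agent.Formal61

noncomputable section

namespace Groth.Agent.Formal53.Local

variable {A : Type u} [CommRing A] [IsNoetherianRing A] [IsLocalRing A] {f : A}

local notation "𝔪" => IsLocalRing.maximalIdeal A
local notation "U" => LocCoh.puncturedOpen A (IsLocalRing.maximalIdeal A)

/-- linear functoriality -/
def hM {P Q : (LocCoh.puncturedOpen A (IsLocalRing.maximalIdeal A) : Scheme.{u}).Modules} (φ : P ⟶ Q) (i : ℕ) :
    Coh.HH (U : Scheme.{u}) P i →ₗ[A] Coh.HH (U : Scheme.{u}) Q i :=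
  CohLin.overLin A (CohLin.hMap φ i)

theorem hM_apply {P Q : (U : Scheme.{u}).Modules} (φ : P ⟶ Q) (i : ℕ) (x : Coh.HH (U : Scheme.{u}) P i) :
    hM φ i x = CohLin.hMap φ i x := rfl

/-- An annihilator of local cohomology kills cohomology on the punctured spectrum. -/
theorem smul_eq_zero (M : Type u) [AddCommGroup M] [Module A M] (q : ℕ) (a : A)
    (ha : a ∈ Module.annihilator A (_root_.LocCoh.H 𝔪 (q + 2) M))
    (x : Coh.HH (U : Scheme.{u}) (Split.tU (𝔞 := 𝔪) M) (q + 1)) : a • x = 0 := by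
  obtain ⟨ι, _, g, hg, ⟨e⟩⟩ := Punct.exists_equiv_H1 𝔪 M q
  obtain ⟨s, rfl⟩ := Punct.L_surjective 𝔪 M g hg (q + 1) x
  have h0 : a • (Submodule.Quotient.mk s : Groth.Agent.KoszulCech.H1 g M q) = 0 :=
    e.injective (by rw [map_smul, map_zero]; exact Module.mem_annihilator.1 ha _)
  rw [← Submodule.Quotient.mk_smul, Submodule.Quotient.mk_eq_zero] at h0
  exact (map_smul (Punct.L 𝔪 M g hg (q + 1)) a s).symm.trans (Punct.L_eq_zero 𝔪 M g hg q _ h0)

theorem isArtinian_HH1 (M : Type u) [AddCommGroup M] [Module A M] [Module.Finite A M] :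
    IsArtinian A (Coh.HH (U : Scheme.{u}) (Split.tU (𝔞 := 𝔪) M) 1) := by
  obtain ⟨ι, _, g, hg, ⟨e⟩⟩ := Punct.exists_equiv_H1 𝔪 M 0
  haveI : IsArtinian A (_root_.LocCoh.H 𝔪 (0 + 2) M) :=
    Groth.Agent.LocCoh.isArtinian_H_maximalIdeal (0 + 2) (ModuleCat.of A M)
  haveI : IsArtinian A (Groth.Agent.KoszulCech.H1 g M 0) := isArtinian_of_linearEquiv e.symm
  let P := (LinearMap.range (Groth.Agent.KoszulCech.cdM g M 0)).comap
    (LinearMap.ker (Groth.Agent.KoszulCech.cdM g M (0 + 1))).subtype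
  refine isArtinian_of_surjective (M := Groth.Agent.KoszulCech.H1 g M 0)
    (Submodule.liftQ P (Punct.L 𝔪 M g hg (0 + 1)) fun s hs =>
    LinearMap.mem_ker.2 (Punct.L_eq_zero 𝔪 M g hg 0 s hs)) fun h => ?_
  obtain ⟨s, hs⟩ := Punct.L_surjective 𝔪 M g hg (0 + 1) h
  exact ⟨Submodule.Quotient.mk s, hs⟩

/-- An Artinian module killed by a power of the maximal ideal is finite. -/
theorem finite_of_pow_smul {H : Type u} [AddCommGroup H] [Module A H] [hart : IsArtinian A H] (k : ℕ)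
    (hk : ∀ a ∈ 𝔪 ^ k, ∀ x : H, a • x = 0) : Module.Finite A H := by
  let J := 𝔪 ^ k
  have := Groth.Agent.LocCohSweep.HLVT.isArtinian_quot_pow (A := A) k
  let : Module (A ⧸ J) H := Module.IsTorsionBySet.module
    (fun n b => hk b.1 b.2 n : Module.IsTorsionBySet A H J)
  have : IsScalarTower A (A ⧸ J) H := IsScalarTower.of_algebraMap_smul fun b n => rfl
  have : IsArtinian (A ⧸ J) H := isArtinian_of_tower A hart
  have h3 : IsNoetherian (A ⧸ J) H := IsSemiprimaryRing.isNoetherian_iff_isArtinian.mpr this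
  exact Module.Finite.trans (A ⧸ J) H

variable (f) in
/-- `0 → A → A → A/f^n → 0` -/
abbrev modS (n : ℕ) : ShortComplex (ModuleCat.{u} A) :=
  ShortComplex.mk (ModuleCat.ofHom (f ^ n • LinearMap.id (R := A) (M := A)))
    (ModuleCat.ofHom (Submodule.mkQ (Ideal.span {f ^ n})))
    (ModuleCat.hom_ext (LinearMap.ext fun x =>
      (Submodule.Quotient.mk_eq_zero _).2 (Ideal.mem_span_singleton'.2 ⟨x, mul_comm _ _⟩)))

theorem shortExact_modS (hf : f ∈ nonZeroDivisors A) (n : ℕ) : (modS f n).ShortExact where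
  exact := (ShortComplex.moduleCat_exact_iff _).2 fun x hx => by
    obtain ⟨c, hc⟩ := Ideal.mem_span_singleton'.1 ((Submodule.Quotient.mk_eq_zero _).1 hx)
    exact ⟨c, (mul_comm _ _).trans hc⟩
  mono_f := (ModuleCat.mono_iff_injective _).2 fun x y h => by
    exact (mul_cancel_left_mem_nonZeroDivisors (pow_mem hf n)).1 h
  epi_g := (ModuleCat.epi_iff_surjective _).2 (Submodule.mkQ_surjective _)

variable (f) in
/-- Reduction from level `n` to level `m`. -/
abbrev proj {m n : ℕ} (h : m ≤ n) : (A ⧸ Ideal.span ({f ^ n} : Set A)) →ₗ[A] A ⧸ Ideal.span ({f ^ m} : Set A) :=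
  Submodule.factor (Ideal.span_singleton_le_span_singleton.2 (pow_dvd_pow f h))

/-- The reduction has image killed by a power of `m` in `H^1`. -/
theorem exists_kill (hf : f ∈ nonZeroDivisors A) {c N N' : ℕ}
    (h2 : 𝔪 ^ N' ≤ Module.annihilator A (_root_.LocCoh.H 𝔪 2 A) ⊔ Ideal.span {f})
    (h3 : ∀ a ∈ 𝔪 ^ N, ∃ b q : A, a = b + q * f ∧ b * f ^ c ∈ Module.annihilator A (_root_.LocCoh.H 𝔪 3 A))
    (y : Coh.HH (U : Scheme.{u}) (Split.tU (𝔞 := 𝔪) (A ⧸ Ideal.span ({f ^ (c + 1)} : Set A))) 1) :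
    ∀ a ∈ 𝔪 ^ (N + N'), a • Split.hΦ (proj f (Nat.le_add_left 1 c)) 1 y = 0 := by
  have hS := fun n => (shortExact_modS hf n).map_of_exact (Affine.Φ U)
  let σ₀ : modS f (c + 1) ⟶ modS f 1 :=
    { τ₁ := ModuleCat.ofHom (f ^ c • LinearMap.id (R := A) (M := A))
      τ₂ := 𝟙 _
      τ₃ := ModuleCat.ofHom (proj f (Nat.le_add_left 1 c))
      comm₁₂ := ModuleCat.hom_ext (LinearMap.ext fun x => by
        show f ^ 1 * (f ^ c * x) = f ^ (c + 1) * x
        ring)
      comm₂₃ := ModuleCat.hom_ext (LinearMap.ext fun x => rfl) }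
  let σ := (Affine.Φ U).mapShortComplex.map σ₀
  have hσ : CohLin.hδ (hS 1) 1 (Split.hΦ (proj f (Nat.le_add_left 1 c)) 1 y) =
      Split.hΦ (f ^ c • LinearMap.id) 2 (CohLin.hδ (hS (c + 1)) 1 y) :=
    FormalFun.δ_natural (hS (c + 1)) (hS 1) σ 1 y
  let d1 := CohLin.overLin A (CohLin.hδ (hS 1) 1)
  let dn := CohLin.overLin A (CohLin.hδ (hS (c + 1)) 1)
  have hy : f ^ (c + 1) • y = 0 := by
    rw [← Split.hΦ_smul_id, Split.hΦ_apply]
    have e : f ^ (c + 1) • LinearMap.id (R := A) (M := A ⧸ Ideal.span ({f ^ (c + 1)} : Set A)) = 0 :=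
      LinearMap.ext fun x => by
        obtain ⟨x, rfl⟩ := Submodule.mkQ_surjective _ x
        exact (Submodule.Quotient.mk_eq_zero _).2 (Ideal.mem_span_singleton'.2 ⟨x, mul_comm _ _⟩)
    rw [e, show ModuleCat.ofHom (0 : (A ⧸ Ideal.span ({f ^ (c + 1)} : Set A)) →ₗ[A] A ⧸ Ideal.span ({f ^ (c + 1)} : Set A)) = 0 from rfl,
      Functor.map_zero]
    exact map_zero (CohLin.hMapHom _ _ 1 y)
  let w := Split.hΦ (𝔞 := 𝔪) (proj f (Nat.le_add_left 1 c)) 1 y
  have hfw : f • w = 0 := by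
    rw [← Split.hΦ_smul_id, Split.hΦ_apply]
    have e : f • LinearMap.id (R := A) (M := A ⧸ Ideal.span ({f ^ 1} : Set A)) = 0 :=
      LinearMap.ext fun x => by
        obtain ⟨x, rfl⟩ := Submodule.mkQ_surjective _ x
        exact (Submodule.Quotient.mk_eq_zero _).2 (Ideal.mem_span_singleton'.2 ⟨x, by simp [mul_comm]⟩)
    rw [e, show ModuleCat.ofHom (0 : (A ⧸ Ideal.span ({f ^ 1} : Set A)) →ₗ[A] A ⧸ Ideal.span ({f ^ 1} : Set A)) = 0 from rfl,
      Functor.map_zero]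
    exact map_zero (CohLin.hMapHom _ _ 1 w)
  have key : ∀ a ∈ 𝔪 ^ N, ∀ a' ∈ 𝔪 ^ N', (a' * a) • w = 0 := by
    intro a ha a' ha'
    obtain ⟨b, q, rfl, hb⟩ := h3 a ha
    have h0 : d1 ((b + q * f) • w) = 0 := by
      refine (map_smul d1 (b + q * f) w).trans ?_
      refine (congrArg ((b + q * f) • ·) (show d1 w = f ^ c • dn y from hσ.trans (Split.hΦ_smul_id _ _ _))).trans ?_
      show (b + q * f) • f ^ c • dn y = 0
      rw [smul_smul, add_mul, add_smul, show q * f * f ^ c = q * f ^ (c + 1) by ring, mul_smul q, show f ^ (c + 1) • dn y = 0 from (map_smul dn _ y).symm.trans ((congrArg dn hy).trans (map_zero dn)), smul_zero,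
        add_zero]
      exact smul_eq_zero A 1 _ hb _
    obtain ⟨z, hz⟩ := CohLin.exists_hMap_g_eq (hS 1) ((b + q * f) • w) h0
    obtain ⟨b', hb', z', hz', rfl⟩ := Submodule.mem_sup.1 (h2 ha')
    obtain ⟨q', rfl⟩ := Ideal.mem_span_singleton'.1 hz'
    rw [add_mul, add_smul, mul_smul b', show q' * f * (b + q * f) = q' * (b + q * f) * f by ring,
      mul_smul _ f, hfw, smul_zero, add_zero, ← hz]
    refine ((map_smul (hM ((Affine.Φ U).map (modS f 1).g) 1) b' z).symm.trans ?_)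
    exact (congrArg _ (smul_eq_zero A 0 b' hb' z)).trans (map_zero _)
  intro a ha
  rw [pow_add] at ha
  refine Submodule.mul_induction_on ha (fun a ha a' ha' => ?_) (fun a a' h h' => by rw [add_smul, h, h', add_zero])
  rw [mul_comm]
  exact key a ha a' ha'

variable {G : ℕᵒᵖ ⥤ (LocCoh.puncturedOpen A (IsLocalRing.maximalIdeal A) : Scheme.{u}).Modules}
  (hD : PrinAlg.Dat (IsLocalRing.maximalIdeal A) f G)

local notation "T" n => A ⧸ Ideal.span ({f ^ n} : Set A)

include hD in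
/-- Images in `H^1` of the special fibre are killed by a power of `m`. -/
theorem exists_kill_tr {c K : ℕ}
    (hK : ∀ (y : Coh.HH (U : Scheme.{u}) (Split.tU (𝔞 := 𝔪) (T (c + 1))) 1),
      ∀ a ∈ 𝔪 ^ K, a • Split.hΦ (proj f (Nat.le_add_left 1 c)) 1 y = 0) :
    ∃ L : ℕ, ∀ (x : Coh.HH (U : Scheme.{u}) (G.obj (op c)) 1), ∀ a ∈ 𝔪 ^ L,
      a • hM (PrinAlg.tr (G := G) (Nat.zero_le c)) 1 x = 0 := by
  classical
  obtain ⟨N, _, ε, hN⟩ := PrinAlg.exists_model hD c
  obtain ⟨s, hs, hrad⟩ := hN.exists_finset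
  obtain ⟨k, hk⟩ := Ideal.exists_pow_le_of_le_radical_of_fg hrad (IsNoetherian.noetherian _)
  refine ⟨K + k, fun x => ?_⟩
  let z := hM ε.inv 1 x
  let ψ := ε.hom ≫ PrinAlg.tr (G := G) (Nat.zero_le c)
  have hx : hM (PrinAlg.tr (G := G) (Nat.zero_le c)) 1 x = hM ψ 1 z := by
    show CohLin.hMap _ 1 x = CohLin.hMap ψ 1 (CohLin.hMap ε.inv 1 x)
    rw [← CohLin.hMap_comp, Iso.inv_hom_id_assoc]
  rw [hx]
  -- maps out of one copy of the model
  have one : ∀ (φ : (T (c + 1)) →ₗ[A] N) (y : Coh.HH (U : Scheme.{u}) (Split.tU (𝔞 := 𝔪) (T (c + 1))) 1),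
      ∀ a ∈ 𝔪 ^ K, a • hM ((Affine.Φ U).map (ModuleCat.ofHom φ) ≫ ψ) 1 y = 0 := by
    intro φ y a ha
    let χ := (Affine.Φ U).map (ModuleCat.ofHom φ) ≫ ψ
    let χ' := (Model.adj U).homEquiv _ _ χ
    have hle : Ideal.span ({f ^ 1} : Set A) ≤ LinearMap.ker (χ'.hom.comp (Submodule.mkQ (Ideal.span ({f ^ (c + 1)} : Set A)))) := by
      refine (Ideal.span_singleton_le_iff_mem _).2 (LinearMap.mem_ker.2 ?_)
      rw [← mul_one (f ^ 1), ← smul_eq_mul, map_smul, ← Model.Γf_smul_apply,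
        PrinAlg.smul_pow_eq_zero hD le_rfl, Functor.map_zero]
      rfl
    let l : ModuleCat.of A (T 1) ⟶ (Model.Γf U).obj (G.obj (op 0)) := ModuleCat.ofHom (Submodule.liftQ _ _ hle)
    have hχ : χ' = ModuleCat.ofHom (proj f (Nat.le_add_left 1 c)) ≫ l :=
      ModuleCat.hom_ext (LinearMap.ext fun t => by
        obtain ⟨t, rfl⟩ := Submodule.mkQ_surjective _ t
        rfl)
    have hχ2 : χ = (Affine.Φ U).map (ModuleCat.ofHom (proj f (Nat.le_add_left 1 c))) ≫
        ((Affine.Φ U).map l ≫ (Model.adj U).counit.app (G.obj (op 0))) := by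
      rw [← Category.assoc, ← Functor.map_comp, ← hχ]
      exact (((Model.adj U).homEquiv _ _).symm_apply_apply χ).symm.trans ((Model.adj U).homEquiv_counit _ _ _)
    show a • hM χ 1 y = 0
    rw [hχ2, hM_apply, CohLin.hMap_comp]
    refine (map_smul (hM ((Affine.Φ U).map l ≫ (Model.adj U).counit.app (G.obj (op 0))) 1) a _).symm.trans ?_
    have := hK y a ha
    rw [Split.hΦ_apply] at this
    rw [this, map_zero]
  have good : ∀ g ∈ (↑s : Set A), ∀ a ∈ 𝔪 ^ K, g • (a • hM ψ 1 z) = 0 := by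
    intro g hg a ha
    obtain ⟨J, _, v, u, huv⟩ := hs hg
    have hgz : g • z = ∑ j, Split.hΦ (u.comp (LinearMap.single A (fun _ => T (c + 1)) j)) 1
        (Split.hΦ ((LinearMap.proj j).comp v) 1 z) := by
      simp only [Split.hΦ_comp]
      rw [← Split.hΦ_sum, ← Split.hΦ_smul_id]
      congr 2
      refine LinearMap.ext fun t => ?_
      simp only [LinearMap.sum_apply, LinearMap.comp_apply, LinearMap.smul_apply, LinearMap.id_apply,
        LinearMap.proj_apply, LinearMap.coe_single]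
      rw [← map_sum, Finset.univ_sum_single, huv]
    rw [smul_comm, ← map_smul, hgz, map_sum, Finset.smul_sum]
    refine Finset.sum_eq_zero fun j _ => ?_
    rw [Split.hΦ_apply, hM_apply, ← CohLin.hMap_comp, ← hM_apply]
    exact one _ _ a ha
  intro a ha
  rw [pow_add] at ha
  refine Submodule.mul_induction_on ha (fun a ha a' ha' => ?_) (fun a a' h h' => by rw [add_smul, h, h', add_zero])
  rw [mul_comm, mul_smul]
  exact Split.smul_eq_zero_of_mem_span _ _ (fun g hg => good g hg a ha) a' (hk ha')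

include hD in
theorem exists_algebraization [IsAdicComplete (Ideal.span ({f} : Set A)) A]
    (h₁ : Module.Finite A (_root_.LocCoh.H 𝔪 1 (A ⧸ Ideal.span {f}))) {c N N' : ℕ}
    (h2 : 𝔪 ^ N' ≤ Module.annihilator A (_root_.LocCoh.H 𝔪 2 A) ⊔ Ideal.span {f})
    (h3 : ∀ a ∈ 𝔪 ^ N, ∃ b q : A, a = b + q * f ∧ b * f ^ c ∈ Module.annihilator A (_root_.LocCoh.H 𝔪 3 A)) :
    ∃ F : (U : Scheme.{u}).Modules, Coh.IsCoh F ∧
      Nonempty (Formal.completion (Ideal.span ({f} : Set A)) F ≅ G) := by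
  obtain ⟨N₀, _, ε, hN₀⟩ := PrinAlg.exists_model hD 0
  rw [zero_add, pow_one] at hN₀
  haveI := PrinFin.finite_Φ 𝔪 (A ⧸ Ideal.span ({f} : Set A)) 0 h₁
  haveI h0 := Split.finite_H0 hN₀
  obtain ⟨L, hL⟩ := exists_kill_tr hD (exists_kill hD.reg h2 h3)
  let P : Submodule A (Coh.HH (U : Scheme.{u}) (G.obj (op 0)) 1) :=
    Submodule.torsionBySet A _ ((𝔪 ^ L : Ideal A) : Set A)
  haveI : IsArtinian A (Coh.HH (U : Scheme.{u}) (G.obj (op 0)) 1) := by
    haveI := isArtinian_HH1 (A := A) N₀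
    refine isArtinian_of_surjective (M := Coh.HH (U : Scheme.{u}) (Split.tU (𝔞 := 𝔪) N₀) 1) (hM ε.hom 1) fun x => ⟨hM ε.inv 1 x, ?_⟩
    rw [hM_apply, hM_apply, ← CohLin.hMap_comp, Iso.inv_hom_id, CohLin.hMap_id]
  haveI hP : Module.Finite A P := finite_of_pow_smul L fun a ha x =>
    Subtype.ext ((Submodule.mem_torsionBySet_iff _ _).1 x.2 ⟨a, ha⟩)
  have hle : ∀ n, LinearMap.range (PrinAlg.δ hD n) ≤ P := by
    intro n
    rintro _ ⟨x, rfl⟩
    let σ : PrinAlg.S hD c n ⟶ PrinAlg.S hD 0 n :=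
      { τ₁ := PrinAlg.tr (Nat.zero_le c)
        τ₂ := PrinAlg.tr (show 0 + (n + 1) ≤ c + (n + 1) by omega)
        τ₃ := 𝟙 _
        comm₁₂ := (PrinAlg.j_tr_comm hD (Nat.zero_le c) (n + 1)).symm
        comm₂₃ := by
          show PrinAlg.tr _ ≫ PrinAlg.tr _ = PrinAlg.tr _ ≫ 𝟙 _
          rw [PrinAlg.tr_tr, Category.comp_id] }
    have h := PrinAlg.δgen_natural (PrinAlg.shortExact_S hD c n) (PrinAlg.shortExact_S hD 0 n) σ x
    rw [CategoryTheory.Functor.map_id] at h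
    refine (Submodule.mem_torsionBySet_iff _ _).2 fun a => ?_
    show (a : A) • PrinAlg.δ hD n x = 0
    rw [show PrinAlg.δ hD n x = _ from h]
    exact hL _ _ a.2
  obtain ⟨c', hc'⟩ := PrinAlg.exists_stable (A := A) hP (fun n => (LinearMap.range (PrinAlg.δ hD n)).comap P.subtype)
    fun a b hab => Submodule.comap_mono (PrinAlg.range_δ_mono hD a b hab)
  refine PrinStable.exists_algebraization hD ⟨c', fun n hn => ?_⟩ (CohLin.finite_of_iso (A := A) ε)
  have := congrArg (Submodule.map P.subtype) (hc' n hn)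
  rwa [Submodule.map_comap_eq, Submodule.map_comap_eq, Submodule.range_subtype, inf_eq_right.2 (hle c'),
    inf_eq_right.2 (hle n)] at this

theorem exists_algebraization_of_eq (V : (Spec (CommRingCat.of A)).Opens) (hV : V = U)
    [IsAdicComplete (Ideal.span ({f} : Set A)) A] (hf : f ∈ nonZeroDivisors A)
    (h₁ : Module.Finite A (_root_.LocCoh.H 𝔪 1 (A ⧸ Ideal.span {f}))) {c N N' : ℕ}
    (h2 : 𝔪 ^ N' ≤ Module.annihilator A (_root_.LocCoh.H 𝔪 2 A) ⊔ Ideal.span {f})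
    (h3 : ∀ a ∈ 𝔪 ^ N, ∃ b q : A, a = b + q * f ∧ b * f ^ c ∈ Module.annihilator A (_root_.LocCoh.H 𝔪 3 A))
    (G : ℕᵒᵖ ⥤ (↑V : Scheme.{u}).Modules) (hG : Formal.IsCohFormal (Ideal.span {f}) G)
    (hfree : ∀ n : ℕ, Formal2.IsFinLocFreeMod (Ideal.span {f}) (n + 1) (G.obj (op n))) :
    ∃ F : (↑V : Scheme.{u}).Modules, Coh.IsCoh F ∧
      Nonempty (Formal.completion (Ideal.span {f}) F ≅ G) := by
  subst hV
  exact exists_algebraization ⟨hG, hfree, hf⟩ h₁ h2 h3

end Groth.Agent.Formal53.Local
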